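import Cfsg.Agent.Lib.OmegaEightCover.Ident

/-!
Every automorphism of `W(E₈)'` is conjugation by an element of `W(E₈)`.
-/

set_option autoImplicit false
set_option linter.unusedSectionVars false
set_option linter.style.haveILetI false
set_option maxRecDepth 20000

namespace Cfsg.Agent.OmegaEightCover

open Omega8Mult
open scoped commutatorElement Matrix

attribute [local irreducible] kMat gMat hMat spin appS dec ofWord sigD

theorem center_W' : Subgroup.center W' = rho.ker := by
  refine le_antisymm (fun x hx => ?_) ker_rho_le_center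
  have : rho x ∈ Subgroup.center SS := Subgroup.mem_center_iff.2 fun y => by
    obtain ⟨w, rfl⟩ := rho_surjective y
    rw [← map_mul, ← map_mul, Subgroup.mem_center_iff.1 hx w]
  rwa [center_SS, Subgroup.mem_bot] at this

theorem aut_center (α : MulAut W') {x : W'} (hx : x ∈ rho.ker) : α x ∈ rho.ker := by
  rw [← center_W'] at hx ⊢
  refine Subgroup.mem_center_iff.2 fun y => ?_
  obtain ⟨w, rfl⟩ := α.surjective y
  rw [← map_mul, ← map_mul, Subgroup.mem_center_iff.1 hx w]

/-- The automorphism downstairs, as a map. -/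
noncomputable def downHom (α : MulAut W') : SS →* SS :=
  (QuotientGroup.lift rho.ker (rho.comp α.toMonoidHom) (show rho.ker ≤ (rho.comp α.toMonoidHom).ker from fun _ hx => aut_center α hx)).comp
    (QuotientGroup.quotientKerEquivOfSurjective rho rho_surjective).symm.toMonoidHom

theorem downHom_rho (α : MulAut W') (w : W') : downHom α (rho w) = rho (α w) := by
  rw [downHom, MonoidHom.comp_apply, MulEquiv.coe_toMonoidHom,
    show (QuotientGroup.quotientKerEquivOfSurjective rho rho_surjective).symm (rho w) = QuotientGroup.mk w from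
      (MulEquiv.symm_apply_eq _).2 rfl]
  exact QuotientGroup.lift_mk _ _ _

theorem downHom_comp (α β : MulAut W') (x : SS) : downHom α (downHom β x) = downHom (α * β) x := by
  obtain ⟨w, rfl⟩ := rho_surjective x
  rw [downHom_rho, downHom_rho, downHom_rho]
  rfl

theorem downHom_id (x : SS) : downHom 1 x = x := by
  obtain ⟨w, rfl⟩ := rho_surjective x
  rw [downHom_rho]
  rfl

/-- The automorphism downstairs. -/
noncomputable def down : MulAut W' →* MulAut SS :=
  MonoidHom.mk' (fun α =>
    { toFun := downHom α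
      invFun := downHom α⁻¹
      left_inv := fun x => by rw [downHom_comp, inv_mul_cancel, downHom_id]
      right_inv := fun x => by rw [downHom_comp, mul_inv_cancel, downHom_id]
      map_mul' := map_mul _ }) fun α β => MulEquiv.ext fun x => (downHom_comp α β x).symm

theorem down_rho (α : MulAut W') (w : W') : down α (rho w) = rho (α w) := downHom_rho α w

theorem down_injective : Function.Injective down := by
  intro α β h
  have hle : commutator W' ≤ MonoidHom.eqLocus α.toMonoidHom β.toMonoidHom := by
    refine commutator_le_of fun x y => ?_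
    show α ⁅x, y⁆ = β ⁅x, y⁆
    rw [map_commutatorElement, map_commutatorElement]
    refine cover_W'.comm_congr ?_ ?_ <;> rw [← down_rho, ← down_rho, h]
  exact MulEquiv.ext fun x => hle (cover_W'.perfect ▸ Subgroup.mem_top x)

theorem vecs_span : ∀ a : Fin 4 ⊕ Fin 4, ∃ s : Finset (Fin 8), ∑ k ∈ s, vec (Data.vecs k) = Pi.single a 1 := by
  decide +kernel

theorem vecs_pol : ∀ k, ∃ u, pol (vec (Data.vecs k)) u = 1 := by decide +kernel

/-- An element of the orthogonal group commuting with all reflections is trivial. -/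
theorem eq_one_of_commute {c : O8} (h : ∀ k, Commute c (t k)) : c = 1 := by
  have hv : ∀ k, mat c *ᵥ vec (Data.vecs k) = vec (Data.vecs k) := fun k => by
    obtain ⟨u, hu⟩ := vecs_pol k
    have e := congrArg (fun A => mat A *ᵥ u) (h k).eq
    simp only [mat_mul, mat_t, ← Matrix.mulVec_mulVec, T_mulVec, mv, hu, one_smul, Matrix.mulVec_add] at e
    have e2 : mat c *ᵥ vec (Data.vecs k) = pol (vec (Data.vecs k)) (mat c *ᵥ u) • vec (Data.vecs k) :=
      add_left_cancel e
    have hz : ∀ a : ZMod 2, a = 0 ∨ a = 1 := by decide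
    rcases hz (pol (vec (Data.vecs k)) (mat c *ᵥ u)) with h0 | h1
    · exfalso
      rw [h0, zero_smul] at e2
      have h2 := congrArg (mat c⁻¹ *ᵥ ·) e2
      simp only [Matrix.mulVec_mulVec, ← mat_mul, inv_mul_cancel, mat_one, Matrix.one_mulVec,
        Matrix.mulVec_zero] at h2
      have h3 : Q8 (vec (Data.vecs k)) = 1 := vec_nonsingular k
      rw [h2] at h3
      revert h3
      decide +kernel
    · rw [e2, h1, one_smul]
  refine mat_inj (Matrix.ext_of_mulVec_single fun a => ?_)
  obtain ⟨s, hs⟩ := vecs_span a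
  rw [mat_one, Matrix.one_mulVec, ← hs, Matrix.mulVec_sum]
  exact Finset.sum_congr rfl fun k _ => hv k

/-- Conjugation by the Weyl group. -/
noncomputable def conjW : WGr →* MulAut W' := MulAut.conjNormal

theorem conjW_apply (g : WGr) (w : W') : (conjW g w : WGr) = g * w.1 * g⁻¹ := MulAut.conjNormal_apply _ _

/-- Conjugation by the orthogonal group. -/
theorem down_conj_eq_one {g : WGr} (h : down (conjW g) = 1) : piW g = 1 := by
  have hc : ∀ x : SS, piW g * x.1 = x.1 * piW g := fun x => by
    obtain ⟨w, rfl⟩ := rho_surjective x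
    have e := down_rho (conjW g) w
    rw [h, MulAut.one_apply] at e
    have e2 := congrArg Subtype.val e
    rw [rho_val, rho_val, conjW_apply, map_mul, map_mul, map_inv] at e2
    rw [rho_val]
    exact (mul_inv_eq_iff_eq_mul.1 e2.symm)
  refine eq_one_of_commute fun k => ?_
  have hN : (Cfsg.Omega (ZMod 2) Q8).Normal := (inferInstance : (commutator O8).Normal)
  have hz : ∀ x : O8, piW g * x * (piW g)⁻¹ * x⁻¹ = 1 := fun x => by
    have hd : piW g * x * (piW g)⁻¹ * x⁻¹ ∈ Cfsg.Omega (ZMod 2) Q8 :=
      Subgroup.commutator_mem_commutator (Subgroup.mem_top (piW g)) (Subgroup.mem_top x)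
    -- a commutator centralising the simple group and lying in it
    have hcc : ∀ y : SS, Commute (piW g * x * (piW g)⁻¹ * x⁻¹) y.1 := fun y => by
      have h1 : Commute (piW g) y.1 := hc y
      have h2 : Commute (x * (piW g)⁻¹ * x⁻¹) y.1 := by
        have hy := hN.conj_mem _ y.2 x⁻¹
        have h3 : Commute (piW g)⁻¹ (x⁻¹ * y.1 * x⁻¹⁻¹) := (show Commute (piW g) _ from hc ⟨_, hy⟩).inv_left
        have h4 := h3.map (MulAut.conj x).toMonoidHom
        simpa [MulAut.conj_apply, mul_assoc] using h4
      have := h1.mul_left h2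
      simpa [mul_assoc] using this
    have hcen : (⟨_, hd⟩ : SS) ∈ Subgroup.center SS :=
      Subgroup.mem_center_iff.2 fun y => Subtype.ext (hcc y).eq.symm
    rw [center_SS, Subgroup.mem_bot] at hcen
    exact congrArg Subtype.val hcen
  have e := hz (t k)
  rw [mul_inv_eq_one, mul_inv_eq_iff_eq_mul] at e
  exact e

theorem card_conj_range : Nat.card (down.comp conjW).range = 2 * Nat.card SS := by
  haveI := finite_W
  have hk : (down.comp conjW).ker = piW.ker := by
    refine le_antisymm (fun g hg => down_conj_eq_one hg) fun g hg => ?_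
    refine MulEquiv.ext fun x => ?_
    obtain ⟨w, rfl⟩ := rho_surjective x
    show down (conjW g) (rho w) = rho w
    rw [down_rho]
    refine Subtype.ext ?_
    rw [rho_val, rho_val, conjW_apply, map_mul, map_mul, map_inv, MonoidHom.mem_ker.1 hg, one_mul, inv_one, mul_one]
  rw [← Subgroup.index_ker, hk, Subgroup.index_ker, MonoidHom.range_eq_top.2 piW_surjective, Subgroup.card_top,
    card_O8, card_SS]

theorem tri_notMem : tri 0 ∉ down.range := by
  rintro ⟨α, hα⟩
  obtain ⟨χ, hχ, hσχ⟩ := exists_from_DP cover_W'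
  have hk : Nat.card χ.ker = 2 := by
    have h := Subgroup.card_mul_index χ.ker
    rw [Subgroup.index_ker, MonoidHom.range_eq_top.2 hχ, Subgroup.card_top, card_DP, card_W'] at h
    have : 0 < Nat.card SS := Nat.card_pos
    nlinarith
  let a : W' := ⟨_, simple_pair_mem 7 (0 : Fin 7).castSucc⟩
  let b : W' := ⟨_, simple_pair_mem 7 (1 : Fin 7).castSucc⟩
  have hab : ⁅a, b⁆ = 1 := by
    refine commutatorElement_eq_one_iff_commute.2 (Subtype.ext ?_)
    have hcom : ∀ i j : Fin 8, cm i j = 2 → Commute (csys.simple i) (csys.simple j) := fun i j h => by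
      have h1 := csys.simple_mul_simple_pow i j
      rw [h, pow_two] at h1
      have h2 := eq_inv_of_mul_eq_one_right h1
      rw [_root_.mul_inv_rev, csys.inv_simple, csys.inv_simple] at h2
      exact h2
    exact (((Commute.refl _).mul_left (hcom _ _ (by decide +kernel))).mul_right
      ((hcom _ _ (by decide +kernel)).mul_left (hcom _ _ (by decide +kernel)))).eq
  obtain ⟨za, hza⟩ := hχ a
  obtain ⟨zb, hzb⟩ := hχ b
  obtain ⟨za', hza'⟩ := hχ (α a)
  obtain ⟨zb', hzb'⟩ := hχ (α b)
  have e0 : ⁅za, zb⁆.1 = mone := twist_value 0 (by rw [← hσχ, hza]; rfl) (by rw [← hσχ, hzb]; rfl)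
  have e1 : ⁅za', zb'⁆.1 = kP := twist_value 1
    (by rw [← hσχ, hza', ← down_rho, hα]; rfl) (by rw [← hσχ, hzb', ← down_rho, hα]; rfl)
  have k0 : χ ⁅za, zb⁆ = 1 := by rw [map_commutatorElement, hza, hzb, hab]
  have k1 : χ ⁅za', zb'⁆ = 1 := by
    rw [map_commutatorElement, hza', hzb', ← map_commutatorElement, hab, map_one]
  obtain ⟨y, -, hy⟩ := (Nat.card_eq_two_iff' (1 : χ.ker)).1 hk
  obtain ⟨h1, h2, h3, h4⟩ := ne_facts
  have n0 : (⟨_, k0⟩ : χ.ker) ≠ 1 := fun e => h1 ((congrArg (fun z : χ.ker => z.1.1) e).symm.trans e0)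
  have n1 : (⟨_, k1⟩ : χ.ker) ≠ 1 := fun e => h2 ((congrArg (fun z : χ.ker => z.1.1) e).symm.trans e1)
  exact h4 (e0.symm.trans ((congrArg (fun z : χ.ker => z.1.1) ((hy _ n0).trans (hy _ n1).symm)).trans e1))

/-- **Automorphisms come from the Weyl group.** -/
theorem exists_conj (α : MulAut W') : ∃ g : WGr, ∀ w : W', (α w : WGr) = g * w.1 * g⁻¹ := by
  haveI := finite_W
  haveI : Finite (MulAut SS) := Nat.finite_of_card_ne_zero (by
    rw [card_mulAut_SS, card_SS]; norm_num)
  set J := (down.comp conjW).range with hJ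
  have hle : J ≤ down.range := by rintro _ ⟨g, rfl⟩; exact ⟨_, rfl⟩
  have hJi : J.index = 3 := by
    have h := Subgroup.card_mul_index J
    rw [card_conj_range, card_mulAut_SS, card_SS] at h
    omega
  have heq : down.range = J := by
    by_contra hne
    have h := Subgroup.relIndex_mul_index hle
    rw [hJi] at h
    rcases (Nat.dvd_prime Nat.prime_three).1 (Dvd.intro_left _ h) with h1 | h3
    · exact tri_notMem (by rw [Subgroup.index_eq_one.1 h1]; exact Subgroup.mem_top _)
    · rw [h3] at h
      exact hne (le_antisymm (Subgroup.relIndex_eq_one.1 (by omega)) hle)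
  obtain ⟨g, hg⟩ : down α ∈ J := heq ▸ ⟨α, rfl⟩
  exact ⟨g, fun w => by rw [← down_injective hg, conjW_apply]⟩

end Cfsg.Agent.OmegaEightCover
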