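import Mathlib.Data.Fin.VecNotation

/-!
# Tables for the triality of `Ω⁺₈(2)`

For two triality automorphisms: the images of the seven generators, as coded matrices and as words in the
reflections.
-/

set_option autoImplicit false
set_option maxRecDepth 20000

namespace Cfsg.Agent.OmegaEightCover.TriData

/-- The coded images. -/
def img1 : Fin 7 → List ℕ := ![[2, 1, 129, 64, 96, 24, 8, 6], [1, 2, 6, 8, 24, 96, 64, 129], [1, 3, 135, 72, 120, 96, 64, 129], [129, 4, 2, 24, 16, 64, 32, 128], [1, 2, 6, 10, 30, 225, 65, 129], [64, 8, 24, 2, 6, 129, 1, 96], [128, 4, 6, 18, 30, 225, 33, 129]]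

/-- Their words. -/
def words1 : Fin 7 → List (Fin 8) := ![
  [4, 0, 5, 4, 3, 1, 3, 4, 5, 3, 4, 5, 2, 3, 4, 1, 3, 2, 0, 2, 3, 1, 4, 3, 2, 5, 4, 3, 3, 6, 5, 4, 3, 2, 3, 4, 5, 6, 7, 6, 5, 4, 3, 2, 0, 2, 3, 4, 5, 6, 7, 6, 7, 5, 6, 1, 3, 4, 5, 2, 3, 4, 1, 3, 2, 0, 2, 3, 1, 4, 3, 2, 5, 4, 3, 1, 6, 5, 7, 6],
  [1, 4, 2, 5, 6, 5, 4, 3, 4, 5, 6, 6, 7, 0, 2, 3, 4, 5, 6, 1, 3, 4, 5, 2, 3, 4, 1, 3, 2, 0, 2, 3, 1, 4, 3, 2, 5, 4, 3, 1, 6, 5, 4, 3, 2, 0, 7, 6, 5, 3, 4, 2, 3, 1, 3, 2, 4, 3, 5, 7, 6, 5, 4, 3, 1, 3, 4, 5, 6, 7],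
  [6, 0, 4, 3, 4, 2, 3, 4, 1, 3, 2, 0, 2, 3, 1, 4, 3, 2, 6, 5, 4, 5, 6, 5, 4, 3, 1, 3, 4, 5, 7, 6, 5, 4, 1, 3, 2, 0, 2, 3, 1, 4, 5, 6, 7, 5, 6, 7, 2, 3, 4, 5, 6, 1, 3, 4, 5, 2, 3, 4, 1, 3, 2, 0, 2, 3, 1, 4, 3, 2, 5, 4, 3, 1, 6, 5, 4, 3, 2, 7, 6, 5],
  [1, 6, 5, 6, 2, 0, 2, 5, 3, 4, 1, 3, 2, 0, 2, 3, 1, 4, 3, 5, 6, 4, 7, 6, 5, 4, 3, 4, 5, 6, 7, 2, 3, 4, 5, 6, 7, 0, 2, 3, 4, 5, 6, 1, 3, 4, 5, 2, 3, 4, 1, 3, 2, 0, 2, 3, 1, 4, 3, 2, 5, 4, 3, 1, 6, 5, 4, 3, 2, 0, 7, 6, 5, 4, 3, 2],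
  [1, 7, 0, 2, 3, 4, 1, 3, 2, 0, 2, 3, 1, 4, 3, 2, 6, 5, 6, 7, 6, 5, 4, 5, 6, 7, 5, 4, 3, 2, 0, 2, 3, 4, 5, 3, 4, 5, 6, 7, 2, 3, 4, 5, 6, 1, 3, 4, 5, 2, 3, 4, 1, 3, 2, 0, 2, 3, 1, 4, 3, 2, 5, 4, 3, 1, 6, 5, 4, 3, 2, 7, 6, 5, 4, 3],
  [6, 5, 6, 2, 0, 2, 7, 6, 7, 2, 3, 1, 3, 2, 7, 0, 3, 4, 5, 2, 3, 4, 1, 3, 2, 0, 2, 3, 1, 4, 3, 2, 5, 4, 3, 2, 1, 3, 4, 5, 6, 7, 0, 2, 3, 4, 5, 6, 1, 3, 4, 5, 2, 3, 4, 1, 3, 2, 0, 2, 3, 1, 4, 3, 2, 5, 4, 3, 1, 6, 5, 4, 3, 2, 0, 7, 6, 5, 4, 3, 1, 2],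
  [6, 5, 0, 2, 4, 3, 4, 5, 4, 2, 3, 1, 3, 2, 4, 5, 6, 7, 5, 6, 4, 5, 3, 4, 2, 3, 1, 3, 2, 4, 3, 5, 4, 6, 5, 7, 6, 2, 3, 4, 1, 3, 2, 0, 2, 3, 1, 4, 3, 2]]

/-- The coded images. -/
def img2 : Fin 7 → List ℕ := ![[2, 1, 9, 6, 96, 144, 128, 64], [1, 2, 6, 9, 144, 96, 64, 128], [3, 2, 6, 15, 144, 240, 192, 128], [9, 4, 2, 8, 16, 64, 32, 144], [1, 2, 6, 9, 150, 105, 65, 130], [64, 128, 144, 96, 6, 9, 1, 2], [8, 4, 6, 9, 150, 105, 33, 18]]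

/-- Their words. -/
def words2 : Fin 7 → List (Fin 8) := ![
  [4, 7, 5, 4, 3, 1, 3, 4, 5, 3, 4, 5, 2, 3, 4, 1, 3, 2, 0, 2, 3, 1, 4, 3, 2, 5, 4, 3, 3, 6, 5, 4, 3, 2, 3, 4, 5, 6, 7, 6, 5, 4, 3, 2, 0, 2, 3, 4, 5, 6, 7, 6, 7, 5, 6, 1, 3, 4, 5, 2, 3, 4, 1, 3, 2, 0, 2, 3, 1, 4, 3, 2, 5, 4, 3, 1, 6, 5, 7, 6],
  [1, 4, 2, 0, 2, 5, 6, 5, 4, 3, 4, 5, 6, 7, 6, 5, 4, 3, 1, 3, 4, 5, 6, 7, 6, 7, 2, 3, 4, 5, 6, 1, 3, 4, 5, 2, 3, 4, 1, 3, 2, 0, 2, 3, 1, 4, 3, 2, 5, 4, 3, 1, 6, 5, 4, 3, 2, 7, 6, 5, 3, 4, 1, 3, 2, 0, 2, 3, 1, 4, 3, 5],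
  [5, 1, 7, 4, 5, 3, 4, 1, 3, 2, 0, 2, 3, 1, 4, 3, 5, 4, 4, 6, 5, 4, 3, 4, 5, 6, 7, 6, 5, 4, 3, 2, 0, 2, 3, 4, 5, 6, 7, 6, 7, 2, 3, 4, 5, 6, 1, 3, 4, 5, 2, 3, 4, 1, 3, 2, 0, 2, 3, 1, 4, 3, 2, 5, 4, 3, 1, 6, 5, 4, 3, 2, 7, 6],
  [1, 2, 6, 5, 6, 5, 3, 4, 2, 3, 1, 3, 2, 4, 3, 5, 6, 4, 7, 6, 5, 4, 3, 4, 5, 6, 7, 2, 3, 4, 5, 6, 7, 0, 2, 3, 4, 5, 6, 1, 3, 4, 5, 2, 3, 4, 1, 3, 2, 0, 2, 3, 1, 4, 3, 2, 5, 4, 3, 1, 6, 5, 4, 3, 2, 0, 7, 6, 5, 4, 3, 2],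
  [1, 7, 0, 2, 3, 4, 1, 3, 2, 0, 2, 3, 1, 4, 3, 2, 6, 5, 6, 7, 6, 5, 4, 5, 6, 7, 5, 4, 3, 2, 3, 4, 5, 3, 4, 5, 6, 7, 0, 2, 3, 4, 5, 6, 1, 3, 4, 5, 2, 3, 4, 1, 3, 2, 0, 2, 3, 1, 4, 3, 2, 5, 4, 3, 1, 6, 5, 4, 3, 2, 0, 7, 6, 5, 4, 3],
  [2, 6, 5, 6, 7, 6, 7, 1, 3, 2, 0, 2, 3, 1, 7, 0, 3, 4, 5, 2, 3, 4, 1, 3, 2, 0, 2, 3, 1, 4, 3, 2, 5, 4, 3, 2, 1, 3, 4, 5, 6, 7, 0, 2, 3, 4, 5, 6, 1, 3, 4, 5, 2, 3, 4, 1, 3, 2, 0, 2, 3, 1, 4, 3, 2, 5, 4, 3, 1, 6, 5, 4, 3, 2, 0, 7, 6, 5, 4, 3, 1, 2],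
  [6, 5, 4, 5, 3, 1, 5, 4, 3, 2, 3, 4, 5, 6, 7, 5, 6, 4, 5, 3, 4, 2, 3, 1, 3, 2, 4, 3, 5, 4, 6, 5, 7, 6, 3, 2, 0, 2, 3, 4, 1, 3, 2, 0, 2, 3, 1, 4]]

end Cfsg.Agent.OmegaEightCover.TriData
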