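import Cfsg.Agent.Lib.Omega8Mult.Relations
import Cfsg.Agent.Lib.OmegaEightCover.TriData

/-!
Evaluation of words in the reflections on coded vectors: over two elements for the orthogonal group, over three
elements for the spin matrices.
-/

set_option autoImplicit false
set_option maxRecDepth 100000

namespace Cfsg.Agent.OmegaEightCover

open Omega8Mult Matrix

/-- A coded reflection step. -/
def stepN (k : Fin 8) (n : ℕ) : ℕ := enc (mv k (vec n))

/-- A word applied to a coded vector. -/
def appT (w : List (Fin 8)) (n : ℕ) : ℕ := w.foldr stepN n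

theorem vec_enc : ∀ u : V2, vec (enc u) = u := by decide +kernel

theorem prodT_vec (w : List (Fin 8)) (n : ℕ) : (w.map T).prod *ᵥ vec n = vec (appT w n) := by
  induction w with
  | nil => rw [List.map_nil, List.prod_nil, Matrix.one_mulVec]; rfl
  | cons k w ih =>
    rw [List.map_cons, List.prod_cons, ← Matrix.mulVec_mulVec, ih, T_mulVec]
    exact (vec_enc _).symm

theorem vec_bit : ∀ a : Fin 4 ⊕ Fin 4, vec (2 ^ ix a) = Pi.single a 1 := by decide +kernel

/-- The word has the coded matrix. -/
def isMat (w : List (Fin 8)) (M : List ℕ) : Bool :=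
  (List.range 8).all fun b => (List.range 8).all fun a => (M.getD a 0).testBit b == (appT w (2 ^ b)).testBit a

theorem ix_lt : ∀ a : Fin 4 ⊕ Fin 4, ix a < 8 := by decide +kernel

theorem prodT_eq {w : List (Fin 8)} {M : List ℕ} (h : isMat w M = true) : (w.map T).prod = mk8 M := by
  simp only [isMat, List.all_eq_true, List.mem_range, beq_iff_eq] at h
  ext a b
  have e := congrFun (prodT_vec w (2 ^ ix b)) a
  rw [vec_bit, Matrix.mulVec_single_one] at e
  rw [show (w.map T).prod a b = vec (appT w (2 ^ ix b)) a from e]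
  simp only [Omega8Mult.vec, mk8, Matrix.of_apply, h (ix b) (ix_lt b) (ix a) (ix_lt a)]

/-- A coded vector over three elements. -/
def dec (n : ℕ) : Fin 16 → ZMod 3 := fun j => ((n / 3 ^ (j : ℕ) : ℕ) : ZMod 3)

/-- The code of a vector. -/
def enc3 (v : Fin 16 → ZMod 3) : ℕ := (List.ofFn fun j => (v j).val).foldr (fun d a => d + 3 * a) 0

theorem foldr_digit : ∀ (l : List ℕ), (∀ d ∈ l, d < 3) → ∀ j (hj : j < l.length),
    (l.foldr (fun d a => d + 3 * a) 0) / 3 ^ j % 3 = l[j] := by
  intro l
  induction l with
  | nil => intro _ j hj; simp at hj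
  | cons d l ih =>
    intro hd j hj
    have hd0 := hd d List.mem_cons_self
    cases j with
    | zero => simp only [List.foldr_cons, pow_zero, Nat.div_one, List.getElem_cons_zero]; omega
    | succ j =>
      rw [List.foldr_cons, pow_succ', ← Nat.div_div_eq_div_mul, Nat.add_mul_div_left _ _ (by norm_num : 0 < 3),
        Nat.div_eq_of_lt hd0, zero_add]
      exact ih (fun x hx => hd x (List.mem_cons_of_mem _ hx)) j (Nat.succ_lt_succ_iff.1 hj)

theorem dec_enc3 (v : Fin 16 → ZMod 3) : dec (enc3 v) = v := by
  funext j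
  have h := foldr_digit (List.ofFn fun j => (v j).val)
    (fun d hd => by obtain ⟨i, rfl⟩ := List.mem_ofFn.1 hd; exact ZMod.val_lt _) j.val (by simp)
  rw [List.getElem_ofFn] at h
  show ((enc3 v / 3 ^ (j : ℕ) : ℕ) : ZMod 3) = v j
  rw [← ZMod.natCast_mod, enc3, h, ZMod.natCast_rightInverse]

/-- A coded spin step. -/
def stepS (k : Fin 8) (n : ℕ) : ℕ := enc3 (spin k *ᵥ dec n)

/-- A word applied to a coded spin vector. -/
def appS (w : List (Fin 8)) (n : ℕ) : ℕ := w.foldr stepS n

theorem prodS_dec (w : List (Fin 8)) (n : ℕ) : (w.map spin).prod *ᵥ dec n = dec (appS w n) := by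
  induction w with
  | nil => rw [List.map_nil, List.prod_nil, Matrix.one_mulVec]; rfl
  | cons k w ih =>
    rw [List.map_cons, List.prod_cons, ← Matrix.mulVec_mulVec, ih]
    exact (dec_enc3 _).symm

open TriData in
/-- The words have the coded matrices and even length. -/
theorem words_ok : ∀ i : Fin 7,
    (isMat (words1 i) (img1 i) = true ∧ (words1 i).length % 2 = 0) ∧
      (isMat (words2 i) (img2 i) = true ∧ (words2 i).length % 2 = 0) := by
  intro i
  fin_cases i <;> decide +kernel

open TriData in
/-- The commutators of the lifts of the first two images. -/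
theorem spin_values :
    (let a := words1 0; let b := words1 1
     let u := dec (appS (a ++ b) 1); let w := dec (appS (b ++ a) 1)
     u ≠ w ∧ u ≠ -w ∧ u ≠ -(kMat *ᵥ w)) ∧
    (let a := words2 0; let b := words2 1
     let u := dec (appS (a ++ b) 1); let w := dec (appS (b ++ a) 1)
     u ≠ w ∧ u ≠ -w ∧ u ≠ kMat *ᵥ w) := by
  decide +kernel

end Cfsg.Agent.OmegaEightCover
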