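import Cfsg.Agent.Lib.OmegaEightCover.Univ
import Cfsg.Agent.Lib.Omega8Mult.Transfer
import Cfsg.Agent.Lib.AutPOmega.D4Out

/-!
Every perfect double cover of `Ω⁺₈(2)` is the derived group of the Weyl group of type `E₈`, and the automorphisms
of that group come from the Weyl group.
-/

set_option autoImplicit false
set_option linter.unusedSectionVars false
set_option linter.style.haveILetI false
set_option maxRecDepth 20000

namespace Cfsg.Agent.OmegaEightCover

open Omega8Mult
open scoped commutatorElement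

attribute [local irreducible] kMat gMat hMat spin

universe u

/-- The commutator of two lifts, by its effect on a vector. -/
theorem comm_value {a b : List (Fin 8)} (ha : a.length % 2 = 0) (hb : b.length % 2 = 0)
    (hc : Commute (ofWord a ha) (ofWord b hb)) {za zb : DP} (h1 : sigD za = ofWord a ha)
    (h2 : sigD zb = ofWord b hb) :
    let u := dec (appS (a ++ b) 1); let w := dec (appS (b ++ a) 1)
    (⁅za, zb⁆.1 = (1 : ↥Pin) ∧ u = w) ∨ (⁅za, zb⁆.1 = mone ∧ u = -w) ∨
      (⁅za, zb⁆.1 = kP ∧ u = Matrix.mulVec kMat w) ∨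
      (⁅za, zb⁆.1 = mone * kP ∧ u = -(Matrix.mulVec kMat w)) := by
  intro u w
  have hk : sigD ⁅za, zb⁆ = 1 := by
    rw [map_commutatorElement, h1, h2]; exact commutatorElement_eq_one_iff_commute.2 hc
  obtain ⟨pa, hpa⟩ := thD_surjective ⟨wd a, wd_mem (a.length / 2) a (by omega)⟩
  obtain ⟨pb, hpb⟩ := thD_surjective ⟨wd b, wd_mem (b.length / 2) b (by omega)⟩
  have e : ⁅za, zb⁆ = ⁅pa, pb⁆ := cover_DP.comm_congr
    (h1.trans (congrArg rho hpa).symm) (h2.trans (congrArg rho hpb).symm)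
  have ma : QuotientGroup.mk' Scal pa.1 = QuotientGroup.mk' Scal (a.map gen).prod :=
    ((phiD_thD pa).symm.trans (congrArg phiD hpa)).trans (phiW_wd a)
  have mb : QuotientGroup.mk' Scal pb.1 = QuotientGroup.mk' Scal (b.map gen).prod :=
    ((phiD_thD pb).symm.trans (congrArg phiD hpb)).trans (phiW_wd b)
  have e2 : ⁅za, zb⁆.1 * ((b.map gen).prod * (a.map gen).prod) = (a.map gen).prod * (b.map gen).prod := by
    rw [e, show ((⁅pa, pb⁆ : DP) : ↥Pin) = ⁅pa.1, pb.1⁆ from map_commutatorElement (commutator ↥Pin).subtype pa pb,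
      Cfsg.Agent.Transfer.SplitLifts.comm_congr scal_le_center ma mb, commutatorElement_def]
    group
  have e3 := congrArg (fun M : M16 => Matrix.mulVec M (dec 1)) (congrArg val e2)
  simp only [val_mul, val_prod, ← List.prod_append, ← List.map_append] at e3
  rw [← Matrix.mulVec_mulVec, prodS_dec, prodS_dec] at e3
  change Matrix.mulVec (val ⁅za, zb⁆.1) w = u at e3
  rcases ker_sigD hk with h | h | h | h <;> rw [h] at e3
  · exact Or.inl ⟨h, by rw [← e3, val_one, Matrix.one_mulVec]⟩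
  · exact Or.inr (Or.inl ⟨h, by rw [← e3, val_mone, Matrix.neg_mulVec, Matrix.one_mulVec]⟩)
  · exact Or.inr (Or.inr (Or.inl ⟨h, by rw [← e3, val_kP]⟩))
  · exact Or.inr (Or.inr (Or.inr ⟨h, by
      rw [← e3, val_mul, val_mone, val_kP, neg_one_mul, Matrix.neg_mulVec]⟩))

unseal kMat spin in
theorem spin_base :
    let u := dec (appS ([7, (0 : Fin 7).castSucc] ++ [7, (1 : Fin 7).castSucc]) 1)
    let w := dec (appS ([7, (1 : Fin 7).castSucc] ++ [7, (0 : Fin 7).castSucc]) 1)
    u ≠ w ∧ u ≠ Matrix.mulVec kMat w ∧ u ≠ -(Matrix.mulVec kMat w) := by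
  decide +kernel

theorem rs_comm01 : Commute (rs 0) (rs 1) := rs_comm (i := 0) (j := 1) (by decide +kernel)

theorem len_two (i : Fin 7) : ([7, i.castSucc] : List (Fin 8)).length % 2 = 0 := by simp

theorem rs_word (i : Fin 7) : ofWord [7, i.castSucc] (len_two i) = rs i := by
  refine congrArg rho (Subtype.ext ?_)
  simp [wd]

attribute [local irreducible] appS dec ofWord sigD

/-- The three twists. -/
noncomputable def twist : Fin 3 → (SS ≃* SS) := ![MulEquiv.refl SS, tri 0, tri 1]

/-- The three central involutions. -/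
def cval : Fin 3 → ↥Pin := ![mone, kP, mone * kP]

theorem value0 {za zb : DP} (h1 : sigD za = ofWord [7, (0 : Fin 7).castSucc] (len_two 0))
    (h2 : sigD zb = ofWord [7, (1 : Fin 7).castSucc] (len_two 1))
    (hc : Commute (ofWord [7, (0 : Fin 7).castSucc] (len_two 0)) (ofWord [7, (1 : Fin 7).castSucc] (len_two 1))) :
    ⁅za, zb⁆.1 = mone := by
  obtain ⟨f1, f2, f3⟩ := spin_base
  rcases comm_value _ _ hc h1 h2 with ⟨-, e⟩ | ⟨e, -⟩ | ⟨-, e⟩ | ⟨-, e⟩
  exacts [absurd e f1, e, absurd e f2, absurd e f3]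

theorem value1 {za zb : DP} (h1 : sigD za = ofWord (TriData.words1 0) (words_ok 0).1.2)
    (h2 : sigD zb = ofWord (TriData.words1 1) (words_ok 1).1.2)
    (hc : Commute (ofWord (TriData.words1 0) (words_ok 0).1.2) (ofWord (TriData.words1 1) (words_ok 1).1.2)) :
    ⁅za, zb⁆.1 = kP := by
  obtain ⟨f1, f2, f3⟩ := spin_values.1
  rcases comm_value _ _ hc h1 h2 with ⟨-, e⟩ | ⟨-, e⟩ | ⟨e, -⟩ | ⟨-, e⟩
  exacts [absurd e f1, absurd e f2, e, absurd e f3]

theorem value2 {za zb : DP} (h1 : sigD za = ofWord (TriData.words2 0) (words_ok 0).2.2)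
    (h2 : sigD zb = ofWord (TriData.words2 1) (words_ok 1).2.2)
    (hc : Commute (ofWord (TriData.words2 0) (words_ok 0).2.2) (ofWord (TriData.words2 1) (words_ok 1).2.2)) :
    ⁅za, zb⁆.1 = mone * kP := by
  obtain ⟨f1, f2, f3⟩ := spin_values.2
  rcases comm_value _ _ hc h1 h2 with ⟨-, e⟩ | ⟨-, e⟩ | ⟨-, e⟩ | ⟨e, -⟩
  exacts [absurd e f1, absurd e f2, absurd e f3, e]

theorem twist_zero (x : SS) : twist 0 x = x := rfl

theorem twist_one (x : SS) : twist 1 x = tri 0 x := rfl

theorem twist_two (x : SS) : twist 2 x = tri 1 x := rfl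

theorem im_zero (i : Fin 7) : im 0 i = ofWord (TriData.words1 i) (words_ok i).1.2 := rfl

theorem im_one (i : Fin 7) : im 1 i = ofWord (TriData.words2 i) (words_ok i).2.2 := rfl

theorem twist_value : ∀ (k : Fin 3) {za zb : DP}, sigD za = twist k (rs 0) → sigD zb = twist k (rs 1) →
    ⁅za, zb⁆.1 = cval k := by
  intro k za zb h1 h2
  have hc : Commute (twist k (rs 0)) (twist k (rs 1)) := rs_comm01.map (twist k)
  obtain rfl | rfl | rfl : k = 0 ∨ k = 1 ∨ k = 2 := (by decide : ∀ k : Fin 3, k = 0 ∨ k = 1 ∨ k = 2) k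
  · simp only [twist_zero, ← rs_word] at h1 h2 hc
    exact value0 h1 h2 hc
  · simp only [twist_one, tri_rs, im_zero] at h1 h2 hc
    exact value1 h1 h2 hc
  · simp only [twist_two, tri_rs, im_one] at h1 h2 hc
    exact value2 h1 h2 hc

section cover

variable {A : Type u} [Group A] [Finite A] {σ : A →* SS} (hA : IsCover σ) (h2 : Nat.card σ.ker = 2)
include hA h2

theorem card_A : Nat.card A = 2 * Nat.card SS := by
  have h := Subgroup.card_mul_index σ.ker
  rw [Subgroup.index_ker, MonoidHom.range_eq_top.2 hA.surj, Subgroup.card_top, h2] at h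
  exact h.symm

/-- For one of the twists the two lifts commute. -/
theorem exists_twist : ∃ k : Fin 3, ∀ a b : A, σ a = twist k (rs 0) → σ b = twist k (rs 1) → ⁅a, b⁆ = 1 := by
  obtain ⟨χ, hχ, hσχ⟩ := exists_from_DP hA
  have hk : Nat.card χ.ker = 2 := by
    have h := Subgroup.card_mul_index χ.ker
    rw [Subgroup.index_ker, MonoidHom.range_eq_top.2 hχ, Subgroup.card_top, card_DP, card_A hA h2] at h
    have : 0 < Nat.card SS := Nat.card_pos
    nlinarith
  obtain ⟨y, hy1, -⟩ := (Nat.card_eq_two_iff' (1 : χ.ker)).1 hk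
  have hys : sigD y.1 = 1 := by rw [← hσχ, y.2, map_one]
  have hyv : ∃ k : Fin 3, y.1.1 = cval k := by
    rcases ker_sigD hys with e | e | e | e
    · exact absurd (Subtype.ext (Subtype.ext e)) hy1
    exacts [⟨0, e⟩, ⟨1, e⟩, ⟨2, e⟩]
  obtain ⟨k, hk⟩ := hyv
  refine ⟨k, fun a b ha hb => ?_⟩
  obtain ⟨za, hza⟩ := hχ a
  obtain ⟨zb, hzb⟩ := hχ b
  have e := twist_value k (za := za) (zb := zb) (by rw [← hσχ, hza, ha]) (by rw [← hσχ, hzb, hb])
  rw [← hza, ← hzb, ← map_commutatorElement, show ⁅za, zb⁆ = y.1 from Subtype.ext (e.trans hk.symm)]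
  exact y.2

/-- **The cover is the derived group of the Weyl group.** -/
theorem nonempty_W' : Nonempty (W' ≃* A) := by
  obtain ⟨k, hk⟩ := exists_twist hA h2
  let σ' : A →* SS := (twist k).symm.toMonoidHom.comp σ
  have hA' : IsCover σ' := ⟨(twist k).symm.surjective.comp hA.surj, fun x hx => hA.central
    ((twist k).symm.injective (hx.trans (map_one _).symm)), hA.perfect⟩
  obtain ⟨ε, s, a, b, c, R, ⟨hεk, hsk, hak, hbk, hck⟩, -, hR, hsq, hE, hbr, hcu, hB, hC, h2', h1⟩ :=
    exists_lifts hA'.surj hA'.central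
  have hε : ε = 1 := by
    rw [← hE 0 1 (by decide +kernel)]
    exact hk _ _ (((twist k).symm_apply_eq).1 (hR _)) (((twist k).symm_apply_eq).1 (hR _))
  subst hε
  rw [Subgroup.zpowers_one_eq_bot, Subgroup.mem_bot] at h1
  obtain ⟨X, hXrel, hX7, hX⟩ := exists_tw hA'.central R hsk hak hbk hck hsq
    (fun i j h => commutatorElement_eq_one_iff_commute.1 (hE i j h)) hbr hcu hB hC h1 h2'
  let τ : A →* O8 := (Cfsg.Omega (ZMod 2) Q8).subtype.comp σ'
  have hτ : ∀ i, τ (X i) = t i * t 7 := by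
    intro i
    induction i using Fin.lastCases with
    | last =>
      rw [show X (Fin.last 7) = 1 from hX7, map_one]
      exact (t_sq 7).symm
    | cast i =>
      obtain ⟨q, hq, e⟩ := hX i
      show ((σ' (X i.castSucc) : SS) : O8) = _
      rw [e, map_inv, map_mul, MonoidHom.mem_ker.1 hq, mul_one, hR, Subgroup.coe_inv, rs_val,
        _root_.mul_inv_rev, inv_eq_of_mul_eq_one_right (t_sq _), inv_eq_of_mul_eq_one_right (t_sq _)]
  obtain ⟨φ, hφ⟩ := exists_derived_hom X hXrel τ hτ
  have hφσ : ∀ w, σ' (φ w) = rho w := fun w => Subtype.ext (hφ w)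
  haveI := finite_W
  have hs : Function.Surjective φ := range_eq_top_of hA' φ fun y => by
    obtain ⟨w, hw⟩ := rho_surjective y
    exact ⟨w, (hφσ w).trans hw⟩
  exact ⟨MulEquiv.ofBijective φ ((Nat.bijective_iff_surjective_and_card φ).2
    ⟨hs, card_W'.trans (card_A hA h2).symm⟩)⟩

end cover

theorem cover_W' : IsCover rho := by
  refine ⟨rho_surjective, ker_rho_le_center, eq_top_iff.2 fun x _ => ?_⟩
  obtain ⟨y, hy, e⟩ : rho x ∈ (commutator W').map rho := by
    rw [map_commutator_top _ rho_surjective, perfect_SS]; exact Subgroup.mem_top _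
  have hw : w0 ∈ commutator W' := Subgroup.commutator_mem_commutator (Subgroup.mem_top _) (Subgroup.mem_top _)
  rcases ker_rho (y⁻¹ * x) (by rw [map_mul, map_inv, e, inv_mul_cancel]) with e' | e'
  · rwa [← inv_mul_eq_one.1 e']
  · rw [eq_mul_of_inv_mul_eq e']; exact mul_mem hy hw

/-- A perfect group with centre of order two and simple quotient `Ω⁺₈(2)` is the derived group. -/
theorem nonempty_of_quotient {A : Type u} [Group A] [Finite A] (hp : commutator A = ⊤)
    (hZ : Nat.card ↥(Subgroup.center A) = 2) {F : Type*} [Field F] [Fintype F] (hF : Fintype.card F = 2)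
    (hq : Nonempty ((A ⧸ Subgroup.center A) ≃* Cfsg.POmega F (Cfsg.quadFormPlus 4 F))) :
    Nonempty (W' ≃* A) := by
  obtain ⟨e⟩ := hq
  obtain ⟨e'⟩ := nonempty_iso hF
  let σ : A →* SS := (e.trans e').toMonoidHom.comp (QuotientGroup.mk' (Subgroup.center A))
  have hker : σ.ker = Subgroup.center A := by
    rw [← MonoidHom.comap_ker, (MonoidHom.ker_eq_bot_iff _).2 (e.trans e').injective, MonoidHom.comap_bot,
      QuotientGroup.ker_mk']
  exact nonempty_W' ⟨(e.trans e').surjective.comp (QuotientGroup.mk'_surjective _), hker.le, hp⟩ (by rw [hker, hZ])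

/-- The automorphism group of the simple group. -/
theorem card_mulAut_SS : Nat.card (MulAut SS) = 6 * Nat.card SS := by
  obtain ⟨e⟩ := nonempty_iso (F := ZMod 2) (ZMod.card 2)
  haveI : Fact (Nat.Prime 2) := ⟨Nat.prime_two⟩
  obtain ⟨e1⟩ := AutPOmega.D4Out.transfer (F := ZMod 2) (p := 2) (f := 1) (by rw [ZMod.card, pow_one]) (Cfsg.quadFormPlus 4 (ZMod 2)) rfl
  obtain ⟨e2⟩ := AutPOmega.OutGamma.out_congr e
  haveI : Fact (Nat.Prime 2) := ⟨Nat.prime_two⟩
  have h6 : Nat.card (Cfsg.Out SS) = 6 := by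
    rw [← Nat.card_congr (e1.trans e2).toEquiv,
      AutPOmega.D4Out.card_G (F := ZMod 2) (p := 2) (f := 1) (by rw [ZMod.card, pow_one]), if_pos rfl]
  have hinj : Function.Injective (MulAut.conj : SS →* MulAut SS) := by
    rw [← MonoidHom.ker_eq_bot_iff, eq_bot_iff, ← center_SS]
    intro x hx
    refine Subgroup.mem_center_iff.2 fun g => ?_
    have h := congrArg (fun f : MulAut SS => f g) hx
    simp only [MulAut.conj_apply, MulAut.one_apply] at h
    exact (mul_inv_eq_iff_eq_mul.1 h).symm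
  have hi : Nat.card (Cfsg.Inn SS) = Nat.card SS := (Nat.card_congr (MonoidHom.ofInjective hinj).toEquiv).symm
  rw [Subgroup.card_eq_card_quotient_mul_card_subgroup (Cfsg.Inn SS)]
  show Nat.card (Cfsg.Out SS) * _ = _
  rw [h6, hi]

end Cfsg.Agent.OmegaEightCover
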