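import Cfsg.Agent.Lib.OmegaEightCover.Eval
import Cfsg.Agent.Lib.Omega8Mult.Cover

/-!
Two triality automorphisms of `Ω⁺₈(2)`, and the double cover `W(E₈)'` of it.
-/

set_option autoImplicit false
set_option linter.unusedSectionVars false
set_option maxRecDepth 20000

namespace Cfsg.Agent.OmegaEightCover

open Omega8Mult
open scoped commutatorElement

universe u

/-- The derived group of the Weyl group of type `E₈`. -/
abbrev W' : Type := ↥(commutator WGr)

instance finite_W' : Finite W' := haveI := finite_W; inferInstance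

theorem card_W' : Nat.card W' = 2 * Nat.card SS := by
  haveI := finite_W
  have h := Subgroup.card_mul_index rho.ker
  rw [Subgroup.index_ker, MonoidHom.range_eq_top.2 rho_surjective, Subgroup.card_top] at h
  rw [← h]
  congr 1
  refine le_antisymm card_ker_rho ?_
  haveI : Nontrivial rho.ker := ⟨⟨1, ⟨w0, rho_w0⟩, fun e => w0_ne (congrArg Subtype.val e).symm⟩⟩
  exact Finite.one_lt_card

/-- The map of the derived group given by seven elements. -/
noncomputable def derivedHom {Q : Type u} [Group Q] (X : Fin 8 → Q) (h : ∀ i j, (X i * (X j)⁻¹) ^ cm i j = 1) :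
    W' →* Q :=
  let f : WGr →* (Q × Q) ⋊[swapHom Q] ℤˣ := csys.lift ⟨_, isLiftable_tw X h⟩
  MonoidHom.mk' (fun w => (f w.1).left.1) fun a b => by
    have hr : (f a.1).right = 1 :=
      MonoidHom.mem_ker.1 ((Abelianization.commutator_subset_ker (SemidirectProduct.rightHom.comp f)) a.2)
    rw [Subgroup.coe_mul, map_mul, SemidirectProduct.mul_left, hr, map_one]
    rfl

theorem derivedHom_pair {Q : Type u} [Group Q] (X : Fin 8 → Q) (h : ∀ i j, (X i * (X j)⁻¹) ^ cm i j = 1)
    (i j : Fin 8) : derivedHom X h ⟨_, simple_pair_mem i j⟩ = X i * (X j)⁻¹ := by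
  show ((csys.lift ⟨_, isLiftable_tw X h⟩) (csys.simple i * csys.simple j)).left.1 = _
  rw [map_mul, CoxeterSystem.lift_apply_simple, CoxeterSystem.lift_apply_simple, tw_mul]
  rfl

/-- An element of the simple group from an even word. -/
def ofWord (w : List (Fin 8)) (h : w.length % 2 = 0) : SS :=
  rho ⟨wd w, wd_mem (w.length / 2) w (by omega)⟩

theorem mS_ofWord {w : List (Fin 8)} (h : w.length % 2 = 0) {M : List ℕ} (hM : isMat w M = true) :
    mS (ofWord w h) = mk8 M := by
  rw [mS, ofWord, rho_val, piW_wd, mat_prod, prodT_eq hM]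

/-- The images of the seven generators. -/
def im : Fin 2 → Fin 7 → SS
  | 0, i => ofWord (TriData.words1 i) (words_ok i).1.2
  | 1, i => ofWord (TriData.words2 i) (words_ok i).2.2

/-- Their matrices. -/
def imM : Fin 2 → Fin 7 → M8 := fun k i => mk8 (![TriData.img1, TriData.img2] k i)

theorem mS_im : ∀ k i, mS (im k i) = imM k i
  | 0, i => mS_ofWord (words_ok i).1.2 (words_ok i).1.1
  | 1, i => mS_ofWord (words_ok i).2.2 (words_ok i).2.1

/-- Their inverses, and `1` at the last node. -/
def invM (k : Fin 2) : Fin 8 → M8 :=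
  Fin.lastCases 1 fun i => if i = 6 then imM k i * imM k i else imM k i

theorem im_rel : ∀ k : Fin 2, (∀ i : Fin 7, invM k i.castSucc * imM k i = 1) ∧
    ∀ i j : Fin 8, (invM k i * if h : j.val < 7 then imM k ⟨j.val, h⟩ else 1) ^ cm i j = 1 := by
  decide +kernel

theorem mS_pow (x : SS) (n : ℕ) : mS (x ^ n) = mS x ^ n := by
  induction n with
  | zero => rfl
  | succ n ih => rw [pow_succ, pow_succ, mS_mul, ih]

/-- The images as a system for the derived group. -/
def imX (k : Fin 2) : Fin 8 → SS := Fin.lastCases 1 fun i => (im k i)⁻¹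

theorem mS_imX (k : Fin 2) (i : Fin 8) : mS (imX k i) = invM k i ∧
    mS (imX k i)⁻¹ = if h : i.val < 7 then imM k ⟨i.val, h⟩ else 1 := by
  induction i using Fin.lastCases with
  | last =>
    simp only [imX, invM, Fin.lastCases_last, inv_one, mS_one]
    simp
  | cast i =>
    simp only [imX, invM, Fin.lastCases_castSucc, inv_inv]
    have h2 := ((im_rel k).1 i)
    simp only [invM, Fin.lastCases_castSucc] at h2
    refine ⟨?_, ?_⟩
    · calc mS (im k i)⁻¹ = (if i = 6 then imM k i * imM k i else imM k i) * imM k i * mS (im k i)⁻¹ := by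
            rw [h2, one_mul]
        _ = _ := by
          rw [mul_assoc, show imM k i * mS (im k i)⁻¹ = 1 by
            rw [← mS_im, ← mS_mul, mul_inv_cancel, mS_one], mul_one]
    · rw [mS_im, dif_pos (by simp)]
      rfl

theorem imX_rel (k : Fin 2) (i j : Fin 8) : (imX k i * (imX k j)⁻¹) ^ cm i j = 1 :=
  mS_inj (by rw [mS_pow, mS_mul, (mS_imX k i).1, (mS_imX k j).2, mS_one]; exact (im_rel k).2 i j)

/-- The automorphism on the derived group of the Weyl group. -/
noncomputable def triW (k : Fin 2) : W' →* SS := derivedHom (imX k) (imX_rel k)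

theorem triW_rs (k : Fin 2) (i : Fin 7) :
    triW k ⟨_, simple_pair_mem 7 i.castSucc⟩ = im k i := by
  rw [triW, derivedHom_pair, show (7 : Fin 8) = Fin.last 7 from rfl,
    show imX k (Fin.last 7) = 1 from Fin.lastCases_last,
    show imX k i.castSucc = (im k i)⁻¹ from Fin.lastCases_castSucc .., inv_inv, one_mul]

/-- `ker rho` is central. -/
theorem ker_rho_le_center : rho.ker ≤ Subgroup.center W' := by
  intro x hx
  refine Subgroup.mem_center_iff.2 fun g => ?_
  have hn := (rho.normal_ker).conj_mem x hx g
  rcases ker_rho x hx with rfl | rfl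
  · rw [mul_one, one_mul]
  · rcases ker_rho _ hn with e | e
    · exact absurd (conj_eq_one_iff.1 e) w0_ne
    · exact mul_inv_eq_iff_eq_mul.1 e

theorem w0_sq : w0 * w0 = 1 := by
  rcases ker_rho (w0 * w0) (by rw [map_mul, rho_w0, mul_one]) with e | e
  · exact e
  · exact absurd (mul_eq_left.1 e) w0_ne

theorem imM_six : ∀ k : Fin 2, imM k 6 * imM k 6 ≠ 1 := by decide +kernel

theorem triW_surj (k : Fin 2) : Function.Surjective (triW k) ∧ (triW k).ker = rho.ker := by
  haveI := simple_SS
  haveI := finite_W
  have hn : ((triW k).ker.map rho).Normal := Subgroup.Normal.map inferInstance rho rho_surjective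
  rcases IsSimpleGroup.eq_bot_or_eq_top_of_normal _ hn with h | h
  · have hle : (triW k).ker ≤ rho.ker := fun x hx => Subgroup.mem_bot.1 (h ▸ ⟨x, hx, rfl⟩)
    have hc := Subgroup.card_mul_index (triW k).ker
    rw [Subgroup.index_ker, card_W'] at hc
    have h2 : Nat.card (triW k).ker ≤ Nat.card rho.ker := Nat.card_le_card_of_injective
      (Subgroup.inclusion hle) (Subgroup.inclusion_injective hle)
    have h3 : Nat.card (triW k).range ≤ Nat.card SS := Nat.card_le_card_of_injective _ Subtype.val_injective
    have h4 := card_ker_rho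
    have h5 : 0 < Nat.card SS := Nat.card_pos
    have h6 : 0 < Nat.card (triW k).ker := Nat.card_pos
    have hker : Nat.card (triW k).ker = 2 := by nlinarith
    refine ⟨?_, Subgroup.eq_of_le_of_card_ge hle (card_ker_rho.trans hker.ge)⟩
    rw [← MonoidHom.range_eq_top]
    exact Subgroup.eq_top_of_card_eq _ (by rw [hker] at hc; omega)
  · exfalso
    obtain ⟨n, hn, e⟩ : rho ⟨_, simple_pair_mem 7 (6 : Fin 7).castSucc⟩ ∈ (triW k).ker.map rho :=
      h ▸ Subgroup.mem_top _
    have h6 : im k 6 * im k 6 = 1 := by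
      rw [← triW_rs, ← map_mul]
      rcases ker_rho (n⁻¹ * ⟨_, simple_pair_mem 7 (6 : Fin 7).castSucc⟩)
        (by rw [map_mul, map_inv, e, inv_mul_cancel]) with e' | e'
      · rw [← inv_mul_eq_one.1 e', map_mul, MonoidHom.mem_ker.1 hn, one_mul]
      · rw [eq_mul_of_inv_mul_eq e', map_mul, map_mul, MonoidHom.mem_ker.1 hn, one_mul, ← map_mul, w0_sq, map_one]
    have h' := congrArg mS h6
    rw [mS_mul, mS_im, mS_one] at h'
    exact imM_six k h'

/-- The two trialities. -/
noncomputable def tri (k : Fin 2) : SS ≃* SS :=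
  MulEquiv.ofBijective
    (((QuotientGroup.lift rho.ker (triW k) (triW_surj k).2.ge).comp
      (QuotientGroup.quotientKerEquivOfSurjective rho rho_surjective).symm.toMonoidHom))
    (by
      haveI := finite_W
      refine Finite.injective_iff_bijective.1 ?_
      intro a b h
      obtain ⟨x, rfl⟩ := rho_surjective a
      obtain ⟨y, rfl⟩ := rho_surjective b
      simp only [MonoidHom.coe_comp, MulEquiv.coe_toMonoidHom, Function.comp_apply] at h
      have e : ∀ z, (QuotientGroup.quotientKerEquivOfSurjective rho rho_surjective).symm (rho z) =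
          QuotientGroup.mk z := fun z => (MulEquiv.symm_apply_eq _).2 rfl
      rw [e, e, QuotientGroup.lift_mk, QuotientGroup.lift_mk] at h
      have hk : x⁻¹ * y ∈ rho.ker := (triW_surj k).2 ▸ (by
        rw [MonoidHom.mem_ker, map_mul, map_inv, h, inv_mul_cancel])
      rw [MonoidHom.mem_ker, map_mul, map_inv, inv_mul_eq_one] at hk
      exact hk)

theorem tri_rho (k : Fin 2) (w : W') : tri k (rho w) = triW k w := by
  show (QuotientGroup.lift rho.ker (triW k) (triW_surj k).2.ge)
    ((QuotientGroup.quotientKerEquivOfSurjective rho rho_surjective).symm (rho w)) = _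
  rw [show (QuotientGroup.quotientKerEquivOfSurjective rho rho_surjective).symm (rho w) = QuotientGroup.mk w from
    (MulEquiv.symm_apply_eq _).2 rfl, QuotientGroup.lift_mk]

theorem tri_rs (k : Fin 2) (i : Fin 7) : tri k (rs i) = im k i := by
  rw [rs, tri_rho, triW_rs]

end Cfsg.Agent.OmegaEightCover
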