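import Cfsg.Agent.Lib.OmegaEightCover.Tri

/-!
The cover of `Ω⁺₈(2)` with kernel a four-group is universal among the perfect central extensions.
-/

set_option autoImplicit false
set_option linter.unusedSectionVars false
set_option linter.style.haveILetI false
set_option maxRecDepth 20000

namespace Cfsg.Agent.OmegaEightCover

open Omega8Mult
open scoped commutatorElement

attribute [local irreducible] kMat gMat hMat spin

universe u

/-- A perfect extension with central kernel. -/
structure IsCover {A : Type u} [Group A] (σ : A →* SS) : Prop where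
  surj : Function.Surjective σ
  central : σ.ker ≤ Subgroup.center A
  perfect : commutator A = ⊤

theorem IsCover.comm_congr {A : Type u} [Group A] {σ : A →* SS} (h : IsCover σ) {x x' y y' : A}
    (hx : σ x = σ x') (hy : σ y = σ y') : ⁅x, y⁆ = ⁅x', y'⁆ :=
  Cfsg.Agent.Transfer.SplitLifts.comm_congr h.central hx hy

theorem map_commutator_top {G : Type*} [Group G] {H : Type*} [Group H] (f : G →* H) (hf : Function.Surjective f) :
    (commutator G).map f = commutator H := by
  rw [commutator_def, Subgroup.map_commutator, Subgroup.map_top_of_surjective f hf, ← commutator_def]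

theorem commutator_le_of {G : Type*} [Group G] {K : Subgroup G} (h : ∀ x y : G, ⁅x, y⁆ ∈ K) : commutator G ≤ K := by
  rw [commutator_def, Subgroup.commutator_le]
  exact fun x _ y _ => h x y

/-- A group all whose commutators are values of a map is its image. -/
theorem range_eq_top_of {A : Type u} [Group A] {B : Type*} [Group B] {σ : A →* SS} (h : IsCover σ)
    (f : B →* A) (hf : Function.Surjective (σ.comp f)) : Function.Surjective f := by
  rw [← MonoidHom.range_eq_top, eq_top_iff, ← h.perfect, commutator_def, Subgroup.commutator_le]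
  intro x _ y _
  obtain ⟨b, hb⟩ := hf (σ x)
  obtain ⟨b', hb'⟩ := hf (σ y)
  exact ⟨⁅b, b'⁆, by rw [map_commutatorElement]; exact h.comm_congr hb hb'⟩

/-- The cover with kernel a four-group, inside the spin group. -/
abbrev DP : Type := ↥(commutator ↥Pin)

theorem map_DP : (commutator ↥Pin).map (QuotientGroup.mk' Scal) = phiD.range := by
  rw [phiD, MonoidHom.range_comp, Subgroup.range_subtype, commutator_def, commutator_def,
    Subgroup.map_commutator, Subgroup.map_commutator,
    Subgroup.map_top_of_surjective _ (QuotientGroup.mk'_surjective _),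
    Subgroup.map_top_of_surjective phiW phiW_surjective]

/-- Modulo scalars. -/
noncomputable def thD : DP →* W' :=
  (MonoidHom.ofInjective phiD_injective).symm.toMonoidHom.comp
    (((QuotientGroup.mk' Scal).comp (commutator ↥Pin).subtype).codRestrict _ fun x => by
      rw [← map_DP]; exact ⟨x.1, x.2, rfl⟩)

theorem phiD_thD (x : DP) : phiD (thD x) = QuotientGroup.mk x.1 :=
  congrArg Subtype.val ((MonoidHom.ofInjective phiD_injective).apply_symm_apply _)

theorem thD_surjective : Function.Surjective thD := fun w => by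
  have hy : phiD w ∈ (commutator ↥Pin).map (QuotientGroup.mk' Scal) := map_DP ▸ ⟨w, rfl⟩
  obtain ⟨x, hx, e⟩ := hy
  exact ⟨⟨x, hx⟩, phiD_injective ((phiD_thD _).trans e)⟩

/-- The map onto the simple group. -/
noncomputable def sigD : DP →* SS := rho.comp thD

/-- The central element of order two downstairs. -/
def kD : DP := ⟨kP, Subgroup.commutator_mem_commutator (Subgroup.mem_top _) (Subgroup.mem_top _)⟩

theorem finite_DP : Finite DP := inferInstance

theorem sigD_surjective : Function.Surjective sigD := rho_surjective.comp thD_surjective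

theorem ker_sigD {x : DP} (h : sigD x = 1) :
    x.1 = 1 ∨ x.1 = mone ∨ x.1 = kP ∨ x.1 = mone * kP := by
  have h2 := phiD_thD x
  rcases ker_rho _ h with e | e
  · rw [e, map_one, eq_comm, QuotientGroup.eq_one_iff] at h2
    rcases mem_scal.1 h2 with e' | e'
    · exact Or.inl e'
    · exact Or.inr (Or.inl e')
  · rw [e, show phiD w0 = QuotientGroup.mk kP from phiW_w0] at h2
    rcases mem_scal.1 (QuotientGroup.eq.1 h2) with e' | e'
    · exact Or.inr (Or.inr (Or.inl (inv_mul_eq_one.1 e').symm))
    · exact Or.inr (Or.inr (Or.inr (by rw [eq_mul_of_inv_mul_eq e', (mone_comm kP).eq])))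

theorem mone_mem : mone ∈ commutator ↥Pin := by
  have key : gen 0 * gen 1 * (gen 0 * gen 4) = mone * (gen 0 * gen 4 * (gen 0 * gen 1)) := by
    refine val_inj ?_
    rw [val_mul, val_mul, val_mul, val_mul mone, val_mul, val_mul, val_mul, val_mone, neg_one_mul]
    simp only [val_gen]
    exact spin_key
  have e : ⁅gen 0 * gen 1, gen 0 * gen 4⁆ = mone := by
    calc ⁅gen 0 * gen 1, gen 0 * gen 4⁆
        = gen 0 * gen 1 * (gen 0 * gen 4) * ((gen 0 * gen 4 * (gen 0 * gen 1)))⁻¹ := by
          simp only [commutatorElement_def]; group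
      _ = mone := by rw [key, mul_inv_cancel_right]
  exact e ▸ Subgroup.commutator_mem_commutator (Subgroup.mem_top _) (Subgroup.mem_top _)

/-- The scalar `-1`. -/
def mD : DP := ⟨mone, mone_mem⟩

theorem ker_sigD_mem : sigD mD = 1 ∧ sigD kD = 1 := by
  refine ⟨?_, ?_⟩
  · show rho (thD mD) = 1
    have : phiD (thD mD) = phiD 1 := by rw [phiD_thD, map_one]; exact mk_mone
    rw [phiD_injective this, map_one]
  · show rho (thD kD) = 1
    have : phiD (thD kD) = phiD w0 := (phiD_thD kD).trans phiW_w0.symm
    rw [phiD_injective this]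
    exact rho_w0

theorem ne_facts : (1 : ↥Pin) ≠ mone ∧ (1 : ↥Pin) ≠ kP ∧ (1 : ↥Pin) ≠ mone * kP ∧ mone ≠ kP := by
  refine ⟨fun e => mone_ne e.symm, fun e => k_ne.1 ?_, fun e => k_ne.2.1 ?_, fun e => k_ne.2.1 ?_⟩
  · have h := congrArg val e
    rw [val_one, val_kP] at h
    exact h.symm
  · have h := congrArg val e
    rw [val_one, val_mul, val_mone, val_kP, neg_one_mul] at h
    rw [h, neg_neg]
  · have h := congrArg val e
    rw [val_mone, val_kP] at h
    exact h.symm

theorem card_DP : Nat.card DP = 4 * Nat.card SS := by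
  classical
  have h := Subgroup.card_mul_index sigD.ker
  rw [Subgroup.index_ker, MonoidHom.range_eq_top.2 sigD_surjective, Subgroup.card_top] at h
  rw [← h]
  congr 1
  obtain ⟨h1, h2, h3, h4⟩ := ne_facts
  have hm := ker_sigD_mem.1
  have hk := ker_sigD_mem.2
  let f : Fin 4 → sigD.ker := ![1, ⟨mD, hm⟩, ⟨kD, hk⟩, ⟨mD, hm⟩ * ⟨kD, hk⟩]
  have hv : ∀ i, (f i).1.1 = ![(1 : ↥Pin), mone, kP, mone * kP] i := by
    intro i; fin_cases i <;> rfl
  have hinj : Function.Injective f := by
    intro i j e
    have e' := congrArg (fun x : sigD.ker => x.1.1) e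
    simp only [hv] at e'
    fin_cases i <;> fin_cases j <;>
      simp [h1, h2, h3, h4, h1.symm, h2.symm, h3.symm, h4.symm] at e' ⊢
  have hsurj : Function.Surjective f := by
    rintro ⟨x, hx⟩
    have e := ker_sigD hx
    rcases e with e | e | e | e
    · exact ⟨0, Subtype.ext (Subtype.ext ((hv 0).trans e.symm))⟩
    · exact ⟨1, Subtype.ext (Subtype.ext ((hv 1).trans e.symm))⟩
    · exact ⟨2, Subtype.ext (Subtype.ext ((hv 2).trans e.symm))⟩
    · exact ⟨3, Subtype.ext (Subtype.ext ((hv 3).trans e.symm))⟩
  rw [← Nat.card_eq_of_bijective f ⟨hinj, hsurj⟩, Nat.card_fin]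

theorem cover_DP : IsCover sigD := by
  have hc : sigD.ker ≤ Subgroup.center DP := fun x hx => Subgroup.mem_center_iff.2 fun g => Subtype.ext (by
    show g.1 * x.1 = x.1 * g.1
    rcases ker_sigD hx with e | e | e | e <;> rw [e]
    · rw [mul_one, one_mul]
    · exact (mone_comm g.1).eq
    · exact (kP_comm_commutator g.2).symm.eq
    · exact ((mone_comm g.1).mul_right (kP_comm_commutator g.2).symm).eq)
  refine ⟨sigD_surjective, hc, eq_top_iff.2 fun x _ => ?_⟩
  have hsurj : (commutator DP).map sigD = ⊤ := (map_commutator_top _ sigD_surjective).trans perfect_SS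
  obtain ⟨y, hy, e⟩ : sigD x ∈ (commutator DP).map sigD := hsurj ▸ Subgroup.mem_top _
  have hlift : ∀ w : W', ∃ z : DP, QuotientGroup.mk' Scal z.1 = phiD w := fun w => by
    obtain ⟨z, hz⟩ := thD_surjective w
    exact ⟨z, by rw [← hz]; exact (phiD_thD z).symm⟩
  have hmem : ∀ c : DP, (∃ w w' : W', ∃ p q : ↥Pin, QuotientGroup.mk' Scal p = phiD w ∧
      QuotientGroup.mk' Scal q = phiD w' ∧ c.1 = ⁅p, q⁆) → c ∈ commutator DP := by
    rintro c ⟨w, w', p, q, hp, hq, hc'⟩
    obtain ⟨p', hp'⟩ := hlift w
    obtain ⟨q', hq'⟩ := hlift w'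
    have : c = ⁅p', q'⁆ := Subtype.ext (by
      rw [hc', show ((⁅p', q'⁆ : DP) : ↥Pin) = ⁅p'.1, q'.1⁆ from
        map_commutatorElement (commutator ↥Pin).subtype p' q']
      exact Cfsg.Agent.Transfer.SplitLifts.comm_congr scal_le_center (hp.trans hp'.symm) (hq.trans hq'.symm))
    rw [this]
    exact Subgroup.commutator_mem_commutator (Subgroup.mem_top _) (Subgroup.mem_top _)
  have hmm : mD ∈ commutator DP := hmem _ ⟨_, _, gen 0 * gen 1, gen 0 * gen 4,
    (phiD_pair 0 1).symm, (phiD_pair 0 4).symm, by
      have key : gen 0 * gen 1 * (gen 0 * gen 4) = mone * (gen 0 * gen 4 * (gen 0 * gen 1)) := by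
        refine val_inj ?_
        rw [val_mul, val_mul, val_mul, val_mul mone, val_mul, val_mul, val_mul, val_mone, neg_one_mul]
        simp only [val_gen]
        exact spin_key
      show mone = _
      calc mone = gen 0 * gen 1 * (gen 0 * gen 4) * (gen 0 * gen 4 * (gen 0 * gen 1))⁻¹ := by
            rw [key, mul_inv_cancel_right]
        _ = ⁅gen 0 * gen 1, gen 0 * gen 4⁆ := by simp only [commutatorElement_def]; group⟩
  have hkk : kD ∈ commutator DP := hmem _ ⟨wg, wh, gP, hP, (phiW_wd _).symm, (phiW_wd _).symm, rfl⟩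
  have hk : ∀ z : DP, sigD z = 1 → z ∈ commutator DP := fun z hz => by
    rcases ker_sigD hz with e | e | e | e
    · rw [show z = 1 from Subtype.ext e]; exact one_mem _
    · rw [show z = mD from Subtype.ext e]; exact hmm
    · rw [show z = kD from Subtype.ext e]; exact hkk
    · rw [show z = mD * kD from Subtype.ext e]; exact mul_mem hmm hkk
  have := mul_mem hy (hk (y⁻¹ * x) (by rw [map_mul, map_inv, e, inv_mul_cancel]))
  rwa [mul_inv_cancel_left] at this

/-- **Universality.** -/
theorem exists_from_DP {A : Type u} [Group A] [Finite A] {σ : A →* SS} (hA : IsCover σ) :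
    ∃ χ : DP →* A, Function.Surjective χ ∧ ∀ x, σ (χ x) = sigD x := by
  classical
  let P : Subgroup (DP × A) := MonoidHom.eqLocus (sigD.comp (MonoidHom.fst DP A)) (σ.comp (MonoidHom.snd DP A))
  let B : Subgroup P := commutator P
  let s : B →* SS := (sigD.comp (MonoidHom.fst DP A)).comp (P.subtype.comp B.subtype)
  have hPs : Function.Surjective ((sigD.comp (MonoidHom.fst DP A)).comp P.subtype) := fun y => by
    obtain ⟨d, hd⟩ := sigD_surjective y
    obtain ⟨a, ha⟩ := hA.surj y
    exact ⟨⟨(d, a), hd.trans ha.symm⟩, hd⟩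
  have hs : Function.Surjective s := fun y => by
    have : y ∈ B.map ((sigD.comp (MonoidHom.fst DP A)).comp P.subtype) := by
      show y ∈ (commutator P).map _
      rw [map_commutator_top _ hPs, perfect_SS]
      exact Subgroup.mem_top _
    obtain ⟨b, hb, e⟩ := this
    exact ⟨⟨b, hb⟩, e⟩
  have hcen : ((sigD.comp (MonoidHom.fst DP A)).comp P.subtype).ker ≤ Subgroup.center P := fun p hp =>
    Subgroup.mem_center_iff.2 fun q => Subtype.ext (Prod.ext
      (Subgroup.mem_center_iff.1 (cover_DP.central hp) q.1.1)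
      (Subgroup.mem_center_iff.1 (hA.central (show σ p.1.2 = 1 from p.2.symm.trans hp)) q.1.2))
  have hst : Cfsg.IsStemExtension s := by
    refine ⟨hs, fun b hb => Subgroup.mem_center_iff.2 fun c =>
      Subtype.ext (Subgroup.mem_center_iff.1 (hcen hb) c.1), ?_⟩
    have h1 : B ≤ (commutator B).map B.subtype := by
      refine commutator_le_of fun p q => ?_
      obtain ⟨b, hb⟩ := hs (sigD p.1.1)
      obtain ⟨c, hc⟩ := hs (sigD q.1.1)
      refine ⟨⁅b, c⁆, Subgroup.commutator_mem_commutator (Subgroup.mem_top _) (Subgroup.mem_top _), ?_⟩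
      rw [map_commutatorElement]
      exact Cfsg.Agent.Transfer.SplitLifts.comm_congr hcen hb hc
    intro b _
    obtain ⟨c, hc, e⟩ := h1 b.2
    rwa [show b = c from Subtype.ext e.symm]
  obtain ⟨f, hf⟩ := exists_four hst
  have hker : Nat.card s.ker ≤ 4 := (Nat.card_le_card_of_surjective f hf).trans (le_of_eq (by simp))
  let p1 : B →* DP := (MonoidHom.fst DP A).comp (P.subtype.comp B.subtype)
  let p2 : B →* A := (MonoidHom.snd DP A).comp (P.subtype.comp B.subtype)
  have hp1 : Function.Surjective p1 := range_eq_top_of cover_DP p1 hs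
  have hcard : Nat.card B ≤ Nat.card DP := by
    have h := Subgroup.card_mul_index s.ker
    rw [Subgroup.index_ker, MonoidHom.range_eq_top.2 hs, Subgroup.card_top] at h
    rw [card_DP, ← h]
    exact Nat.mul_le_mul_right _ hker
  have hb : Function.Bijective p1 := (Nat.bijective_iff_surjective_and_card p1).2
    ⟨hp1, le_antisymm hcard (Nat.card_le_card_of_surjective p1 hp1)⟩
  let e := MulEquiv.ofBijective p1 hb
  refine ⟨p2.comp e.symm.toMonoidHom, ?_, fun x => ?_⟩
  · refine range_eq_top_of hA _ ?_
    intro y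
    obtain ⟨x, hx⟩ := sigD_surjective y
    exact ⟨x, (e.symm x).1.2.symm.trans ((congrArg sigD (e.apply_symm_apply x)).trans hx)⟩
  · exact (e.symm x).1.2.symm.trans (congrArg sigD (e.apply_symm_apply x))

end Cfsg.Agent.OmegaEightCover
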